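import Cfsg.Agent.H72.F4G.Main
import Cfsg.Agent.H244.S3509.AutG2
import Cfsg.Agent.H69.OutGF

/-!
# S3509, `F₄(2^n)`: the automorphisms of order 2 (helper72)

* `frame_f4` : the frame form of an automorphism `x` with `x ^ 2 = 1`;
* `form_f4` : an automorphism with nontrivial diagram symmetry is `y * Psi j * y⁻¹` on the algebraic group;
* `gr_F4` : no cover with a member of order 2 which is not of type `Ty`.
-/

set_option autoImplicit false
set_option linter.unusedSectionVars false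

namespace Cfsg.Agent.H72.F4G

open CoxeterSystem MulAction Subgroup Cfsg Cfsg.Lie Cfsg.Lie.ChevalleyDatum
open Cfsg.Agent.ChevalleyStructure Cfsg.Agent.ChevalleyStructure.Elts Cfsg.Agent.ChevalleyStructure.CoxeterGeom
  Cfsg.Agent.ChevalleyStructure.CoxeterGeomTypes Cfsg.Agent.ChevalleyStructure.NPerm
open Cfsg.Agent.Tits.Roots Cfsg.Agent.Tits.Core Cfsg.Agent.Nodes.Reps Cfsg.Agent.Nodes.BNOf
  Cfsg.Agent.Nodes.RGDChev Cfsg.Agent.Nodes.Bruhat Cfsg.Agent.Nodes.OppDec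
open Cfsg.Agent.KFacts.RgdAut Cfsg.Agent.KFacts.RgdDiag Cfsg.Agent.KFacts.RgdRigid
  Cfsg.Agent.KFacts.RgdField Cfsg.Agent.KFacts.RgdTau Cfsg.Agent.KFacts.RgdChevCoord
  Cfsg.Agent.CpAut.RgdUntw Cfsg.Agent.CpAut.RgdConj
open Cfsg.Agent.GpExc.Field (glMap emb coe_emb glMap_xG emb_injective coe_glMap)
open Cfsg.Agent.BpExc Cfsg.Agent.BpExc.FamExt Cfsg.Agent.BpExc.FamFrame Cfsg.Agent.BpExc.FamField Cfsg.Agent.BpExc.Tow
  Cfsg.Agent.BpExc.TowChev Cfsg.Agent.BpExc.FamUntw Cfsg.Agent.BpExc.FamInst Cfsg.Agent.BpExc.LangFr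
open Cfsg.Agent.H79.SimpleGen (xS)
open Cfsg.Agent.H296.FFour (hp4 br la tab al al_xS fld_xS phi_xS tab2 ext4 sg sg_xS al_phi_sq lang4)
open Cfsg.Agent.H469.Exc Cfsg.Agent.H469.Exc.SigFr
open Cfsg.Agent.H28.GenF Cfsg.Agent.H327.RG
open Cfsg.Agent.H106.RC Cfsg.Agent.H873.RG

section frame

variable {F : Type} [Field F] [Fintype F] [CharP F 2]

/-- the frame form of an automorphism of order dividing 2 -/
theorem frame_f4 {x : MulAut ↥(chevF4.group F)} (hx : x ^ 2 = 1) :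
    (∃ (g : ↥(chevF4.group F)) (τ : F ≃+* F),
      Tau (TT chevF4 F) (XX chevF4 4 F) (ch hp4) (cartanOf chevF4 4) (MulAut.conj g * x) 1 τ ∧ τ ^ 2 = 1) ∨
    ∃ (g : ↥(chevF4.group F)) (σ : Equiv.Perm (Fin 4)), σ ≠ 1 ∧
      Diag (TT chevF4 F) (XX chevF4 4 F) (MulAut.conj g * x) σ := by
  have : Fact (Nat.Prime 2) := ⟨Nat.prime_two⟩
  obtain ⟨cs⟩ : Nonempty (CoxeterSystem CoxeterMatrix.F₄ CoxeterMatrix.F₄.Group) := ⟨CoxeterMatrix.F₄.toCoxeterSystem⟩
  obtain ⟨hl, hconn⟩ := conn_of_fin (r := 2) hp4 (S1054.result chevF4 (by simp))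
  have hW := finite_W hp4 cs
  have R := rgd (K := F) hp4 cs 2
  have C := coords (K := F) hp4 cs 2
  have H := coroots (K := F) hp4 cs 2
  have hG := TorChev.GG_top (K := F) hp4 cs
  obtain ⟨g, h1, h2, σ, Dg⟩ := exists_frame_any R hG x
  obtain ⟨g', e⟩ := exists_conj_pow g x 2
  rw [hx, mul_one] at e
  have hpow : ∀ {S : Subgroup ↥(chevF4.group F)}, Fix (MulAut.conj g * x) S → Fix ((MulAut.conj g * x) ^ 2) S := by
    intro S hS
    rw [pow_two]
    exact hS.mul hS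
  have hg' : g' ∈ TT chevF4 F := by
    refine mem_T_of_frame R hG ?_ ?_
    · rw [← e]; exact hpow h1
    · rw [← e]; exact hpow h2
  by_cases hσ1 : σ = 1
  · left
    subst hσ1
    obtain ⟨τ, hτ⟩ := exists_tau R C H hconn Dg (fun _ _ => rfl)
    refine ⟨g, τ, hτ, ?_⟩
    have h3 := hτ.pow 2
    rw [e, one_pow] at h3
    exact (Tau.unique R C h3 (tau_conj R C hg')).2
  · exact Or.inr ⟨g, σ, hσ1, Dg⟩

/-- the symmetries of the diagram -/
theorem diag_cases {σ : Equiv.Perm (Fin 4)} {φ : MulAut ↥(chevF4.group F)}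
    (D : Diag (TT chevF4 F) (XX chevF4 4 F) φ σ) (hσ : σ ≠ 1) : σ = H69.OutGF.flip4' := by
  have h1 : Cfsg.Agent.H70.ChevField.Perm chevF4 F φ (show Equiv.Perm (Fin chevF4.rank) from σ) := by
    constructor
    · intro i
      have e1 := XV_sr (K := F) hp4 i
      have e2 := XV_sr (K := F) hp4 (σ i)
      ext g
      rw [Cfsg.Agent.H70.AutFix.mem_smul_iff]
      have h3 := D.pos i (φ⁻¹ g)
      rw [MulAut.apply_inv_self, Subgroup.mem_subgroupOf, Subgroup.mem_subgroupOf, e1, e2] at h3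
      exact h3.symm
    · intro i
      have e1 := XV_neg_sr (K := F) hp4 i
      have e2 := XV_neg_sr (K := F) hp4 (σ i)
      ext g
      rw [Cfsg.Agent.H70.AutFix.mem_smul_iff]
      have h3 := D.neg i (φ⁻¹ g)
      rw [MulAut.apply_inv_self, Subgroup.mem_subgroupOf, Subgroup.mem_subgroupOf, e1, e2] at h3
      exact h3.symm
  rcases H69.OutGF.realised_F4 (F := F) ⟨φ, h1⟩ with h3 | h3
  · exact absurd h3 hσ
  · exact h3

/-- a subgroup mapped into itself is fixed -/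
theorem fix_of_le {Y : Type*} [Group Y] [Finite Y] {β : MulAut Y} {T : Subgroup Y} (h : ∀ y ∈ T, β y ∈ T) : Fix β T := by
  have h1 : T.map β.toMonoidHom = T := by
    refine Subgroup.eq_of_le_of_card_ge ?_ ?_
    · rintro _ ⟨y, hy, rfl⟩
      exact h y hy
    · rw [Nat.card_congr (T.equivMapOfInjective β.toMonoidHom β.injective).toEquiv]
  intro y
  constructor
  · intro hy
    rw [← h1] at hy
    obtain ⟨z, hz, e⟩ := hy
    have : z = y := β.injective e
    rwa [this] at hz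
  · exact h y

set_option maxRecDepth 100000 in
theorem vec_tab : ∀ r < 48, (24 ≤ r ↔ ∀ i : Fin 4, 0 ≤ vec chevF4 4 r i) ∧ (r < 24 ↔ ∀ i : Fin 4, vec chevF4 4 r i ≤ 0) := by
  decide +kernel

theorem al_vec [PerfectRing F 2] {s : ℕ} (hs : s < 48) {y : ↥(chevF4.group F)} (hy : y ∈ XX chevF4 4 F (vec chevF4 4 s)) :
    al F y ∈ XX chevF4 4 F (vec chevF4 4 (br s)) := by
  rw [Subgroup.mem_subgroupOf, XV_vec hp4 _ hs, mem_rootSubgroup_iff hp4.inList] at hy
  obtain ⟨t, ht⟩ := hy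
  have e : y = xS hp4.inList s t := Subtype.ext ht
  rw [e, al_xS hs, Subgroup.mem_subgroupOf, XV_vec hp4 _ (tab s hs).1, mem_rootSubgroup_iff hp4.inList]
  exact ⟨_, rfl⟩

theorem sr03 : (sr (0 : Fin 4) : Fin 4 → ℤ) = vec chevF4 4 33 ∧ (sr (3 : Fin 4) : Fin 4 → ℤ) = vec chevF4 4 24 ∧
    br 33 = 24 := by decide +kernel

/-- the diagram symmetry of `Γ` -/
theorem diag_al [PerfectRing F 2] : Diag (TT chevF4 F) (XX chevF4 4 F) (al F) H69.OutGF.flip4' := by
  have : Fact (Nat.Prime 2) := ⟨Nat.prime_two⟩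
  obtain ⟨cs⟩ : Nonempty (CoxeterSystem CoxeterMatrix.F₄ CoxeterMatrix.F₄.Group) := ⟨CoxeterMatrix.F₄.toCoxeterSystem⟩
  have hW := finite_W hp4 cs
  have R := rgd (K := F) hp4 cs 2
  have hG := TorChev.GG_top (K := F) hp4 cs
  have hU : Fix (al F) (RGD.Sup (XX chevF4 4 F) (RGD.Pos cs hp4.isCartan)) := by
    refine fix_of_le fun y hy => ?_
    have h1 : RGD.Sup (XX chevF4 4 F) (RGD.Pos cs hp4.isCartan) ≤
        (RGD.Sup (XX chevF4 4 F) (RGD.Pos cs hp4.isCartan)).comap (al F).toMonoidHom := by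
      refine RGD.Sup_le fun v hv z hz => ?_
      obtain ⟨s, hs, rfl⟩ := (isRoot_iff hp4 cs v).1 hv.1
      have hs48 : s < 48 := hs
      have h2 : 24 ≤ s := ((vec_tab s hs48).1).2 hv.2
      have h3 : vec chevF4 4 (br s) ∈ RGD.Pos cs hp4.isCartan :=
        ⟨(isRoot_iff hp4 cs _).2 ⟨_, (tab s hs48).1, rfl⟩,
          ((vec_tab _ (tab s hs48).1).1).1 ((tab2 s hs48).2.2.2.2.2.1 h2)⟩
      exact RGD.le_Sup h3 (al_vec hs48 hz)
    exact h1 hy
  have hUN : Fix (al F) (UN cs hp4.isCartan (XX chevF4 4 F)) := by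
    refine fix_of_le fun y hy => ?_
    have h1 : RGD.Sup (XX chevF4 4 F) (Neg cs hp4.isCartan) ≤
        (RGD.Sup (XX chevF4 4 F) (Neg cs hp4.isCartan)).comap (al F).toMonoidHom := by
      refine RGD.Sup_le fun v hv z hz => ?_
      obtain ⟨s, hs, rfl⟩ := (isRoot_iff hp4 cs v).1 hv.1
      have hs48 : s < 48 := hs
      have h2 : s < 24 := ((vec_tab s hs48).2).2 hv.2
      have h3 : vec chevF4 4 (br s) ∈ Neg cs hp4.isCartan :=
        ⟨(isRoot_iff hp4 cs _).2 ⟨_, (tab s hs48).1, rfl⟩,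
          ((vec_tab _ (tab s hs48).1).2).1 ((tab2 s hs48).2.2.2.2.2.2 h2)⟩
      exact RGD.le_Sup h3 (al_vec hs48 hz)
    exact h1 hy
  obtain ⟨σ, D⟩ := exists_diag R hG hU hUN
  have hσ : σ ≠ 1 := by
    rintro rfl
    have h1 : xS hp4.inList 33 (1 : F) ∈ XX chevF4 4 F (sr 0) := by
      rw [sr03.1, Subgroup.mem_subgroupOf, XV_vec hp4 _ (by decide : 33 < chevF4.nroots), mem_rootSubgroup_iff hp4.inList]
      exact ⟨_, rfl⟩
    have h2 := (D.pos 0 _).2 h1
    have h3 : al F (xS hp4.inList 33 (1 : F)) ∈ XX chevF4 4 F (sr 3) := by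
      rw [sr03.1] at h1
      have h4 := al_vec (by norm_num) h1
      rwa [sr03.2.2, ← sr03.2.1] at h4
    have h4 := X_inf_X R (isRoot_sr cs hp4.isCartan 0) (isRoot_sr cs hp4.isCartan 3) (by
      intro h
      have h5 := congrFun h 0
      rw [sr_self, sr_ne (by decide)] at h5
      exact one_ne_zero h5)
    rw [Subgroup.eq_bot_iff_forall] at h4
    have h5 := h4 _ ⟨h2, h3⟩
    rw [map_eq_one_iff _ (al F).injective] at h5
    have h6 : xG hp4.inList 33 (1 : F) = 1 := congrArg Subtype.val h5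
    rw [xG_eq_one_iff hp4.inList (by decide : 33 < chevF4.nroots)] at h6
    exact one_ne_zero h6
  rwa [diag_cases D hσ] at D

/-- the embedding and `Γ` -/
theorem emb_al [PerfectRing F 2] (f : F →+* KK 2) (a : ↥(chevF4.group F)) :
    emb hp4.inList f (al F a) = al (KK 2) (emb hp4.inList f a) := by
  have h1 : (emb hp4.inList f).comp (al F).toMonoidHom = (al (KK 2)).toMonoidHom.comp (emb hp4.inList f) := by
    apply ext4
    intro r hr t
    show emb hp4.inList f (al F (xS hp4.inList r t)) = al (KK 2) (emb hp4.inList f (xS hp4.inList r t))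
    rw [al_xS hr, emb_xS, emb_xS, al_xS hr, map_pow]
  exact DFunLike.congr_fun h1 a

/-- **the form of an automorphism with nontrivial diagram symmetry** -/
theorem form_f4 (f : F →+* KK 2) {x : MulAut ↥(chevF4.group F)} {g : ↥(chevF4.group F)} {σ : Equiv.Perm (Fin 4)}
    (hσ : σ ≠ 1) (D : Diag (TT chevF4 F) (XX chevF4 4 F) (MulAut.conj g * x) σ) :
    ∃ (j : ℕ) (z : ↥(chevF4.group (KK 2))), ∀ a, emb hp4.inList f (x a) = z * Psi j (emb hp4.inList f a) * z⁻¹ := by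
  have : Fact (Nat.Prime 2) := ⟨Nat.prime_two⟩
  have : ExpChar F 2 := ExpChar.prime Nat.prime_two
  have : PerfectRing F 2 := PerfectRing.ofFiniteOfIsReduced 2 F
  obtain ⟨cs⟩ : Nonempty (CoxeterSystem CoxeterMatrix.F₄ CoxeterMatrix.F₄.Group) := ⟨CoxeterMatrix.F₄.toCoxeterSystem⟩
  obtain ⟨hl, hconn⟩ := conn_of_fin (r := 2) hp4 (S1054.result chevF4 (by simp))
  have hW := finite_W hp4 cs
  have R := rgd (K := F) hp4 cs 2
  have C := coords (K := F) hp4 cs 2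
  have H := coroots (K := F) hp4 cs 2
  have D1 := (diag_al (F := F)).inv.mul D
  rw [diag_cases D hσ, inv_mul_cancel] at D1
  obtain ⟨τ, hτ⟩ := exists_tau R C H hconn D1 (fun _ _ => rfl)
  obtain ⟨j, hj⟩ := exists_pow_eq 2 τ
  obtain ⟨t, -, e⟩ := exists_ext hp4 f 2 hconn inv_F4 one_ne_zero (fun c _ => ⟨f c, pow_one _⟩) hτ
    (τ' := frb (KK 2) 2 j) (fun a => by rw [frb_apply, hj, map_pow])
  refine ⟨j, (emb hp4.inList f g)⁻¹ * al (KK 2) t, fun a => ?_⟩
  have h1 := congrArg (al (KK 2)) (e a)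
  rw [← emb_al] at h1
  have h2 : al F (((al F)⁻¹ * (MulAut.conj g * x)) a) = g * x a * g⁻¹ := by
    rw [MulAut.mul_apply, MulAut.apply_inv_self]
    rfl
  rw [h2, map_mul, map_mul, map_inv, map_mul, map_mul, map_inv] at h1
  have h3 : Psi j (emb hp4.inList f a) = al (KK 2) (fld chevF4 (frb (KK 2) 2 j) (emb hp4.inList f a)) := rfl
  rw [h3]
  calc emb hp4.inList f (x a) = (emb hp4.inList f g)⁻¹ * (emb hp4.inList f g * emb hp4.inList f (x a) *
        (emb hp4.inList f g)⁻¹) * emb hp4.inList f g := by group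
    _ = _ := by rw [h1]; group

/-- **An automorphism of order 2 with nontrivial diagram symmetry.** -/
theorem graph_form (f : F →+* KK 2) {n : ℕ} (hn : Nat.card F = 2 ^ n) {x : MulAut ↥(chevF4.group F)} (hx : x ^ 2 = 1)
    {g : ↥(chevF4.group F)} {σ : Equiv.Perm (Fin 4)}
    (hσ : σ ≠ 1) (D : Diag (TT chevF4 F) (XX chevF4 4 F) (MulAut.conj g * x) σ) :
    ∃ m, n = 2 * m + 1 ∧ ∃ y, ∀ a, emb hp4.inList f (x a) = y * Psi m (emb hp4.inList f a) * y⁻¹ := by
  have : Fact (Nat.Prime 2) := ⟨Nat.prime_two⟩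
  obtain ⟨j, z, hz⟩ := form_f4 f hσ D
  obtain ⟨w, hw⟩ : ∃ w, ∀ a, emb hp4.inList f a = w * phi chevF4 (KK 2) 2 (2 * j + 1) (emb hp4.inList f a) * w⁻¹ := by
    refine ⟨z * Psi j z, fun a => ?_⟩
    have h1 : x (x a) = a := by
      have h2 := DFunLike.congr_fun hx a
      rwa [pow_two] at h2
    have h2 := hz (x a)
    rw [h1, hz a, map_mul, map_mul, map_inv, ← MulAut.mul_apply, Psi_sq] at h2
    refine h2.trans ?_
    group
  have hu := hw (cw F u0)
  have hn0 := hw (n0 F)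
  rw [emb_cw, cw_phi] at hu
  rw [emb_n0, phi_n0] at hn0
  have hw1 : w = 1 := eq_one_of_u0_n0 (mul_inv_eq_iff_eq_mul.1 hu.symm) (mul_inv_eq_iff_eq_mul.1 hn0.symm)
  have hdvd : n ∣ 2 * j + 1 := by
    rw [← forall_pow_iff (F := F) 2 hn (2 * j + 1)]
    intro v
    have h1 := hw (xS hp4.inList 24 v)
    rw [hw1, one_mul, inv_one, mul_one, emb_xS, phi_xS] at h1
    have h2 := xG_injective hp4.inList (r := 24) (by decide) (congrArg Subtype.val h1)
    rw [← map_pow] at h2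
    exact (f.injective h2).symm
  obtain ⟨c, hc⟩ := hdvd
  have hodd : Odd (n * c) := by rw [← hc]; exact ⟨j, rfl⟩
  obtain ⟨⟨m, hm⟩, ⟨d, hd⟩⟩ := Nat.odd_mul.1 hodd
  refine ⟨m, hm, z, fun a => ?_⟩
  have hj : j = m + n * d := by
    have h1 : 2 * j + 1 = n * (2 * d + 1) := by rw [hc, hd]
    have h2 : n * (2 * d + 1) = 2 * (n * d) + n := by ring
    rw [h2] at h1
    omega
  have h1 : Psi j (emb hp4.inList f a) = Psi m (emb hp4.inList f a) := by
    have e1 : phi chevF4 (KK 2) 2 j = phi chevF4 (KK 2) 2 m * phi chevF4 (KK 2) 2 n ^ d := by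
      have e2 : phi chevF4 (KK 2) 2 1 ^ j = phi chevF4 (KK 2) 2 1 ^ m * phi chevF4 (KK 2) 2 1 ^ (n * d) := by
        rw [← pow_add, hj]
      rw [phi_pow, phi_pow, phi_pow, one_mul, one_mul, one_mul] at e2
      rw [e2, phi_pow]
    rw [Psi, Psi, MulAut.mul_apply, MulAut.mul_apply, e1, MulAut.mul_apply,
      H28.GenF.apply_pow (phi_emb hp4 2 f hn a) d]
  rw [hz, h1]

end frame

/-- **`F₄(2^n)`: no cover with a member of order 2 which is neither inner-diagonal nor of field type.** -/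
theorem gr_F4 {F : Type} [Field F] [Fintype F] [CharP F 2] (f : F →+* KK 2)
    (hIH : IHx (Nat.card ↥(chevF4.group F)))
    {G Ω κ : Type*} [Group G] [MulAction G Ω] [Nonempty Ω] [Finite κ] {N : Subgroup G} (hE : Env G Ω N)
    (e : N ≃* ↥(chevF4.group F)) {x : κ → G} {s : κ → ℕ} {n : ℕ} (hn : Nat.card F = 2 ^ n)
    (hx : PF x s) (hcov : Cov Ω x) {i₀ : κ} (h2 : s i₀ = 2) (hi₀ : ¬ Ty hp4 f n 2 (act hE e (x i₀)))
    (hT : ∀ j, j ≠ i₀ → Ty hp4 f n (s j) (act hE e (x j))) : False := by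
  have : Fact (Nat.Prime 2) := ⟨Nat.prime_two⟩
  have hx2 : act hE e (x i₀) ^ 2 = 1 := by
    rw [← map_pow, ← h2, hx.pow, map_one]
  rcases frame_f4 hx2 with ⟨g, τ, hτ, hτ2⟩ | ⟨g, σ, hσ, D⟩
  · obtain ⟨hl, hconn⟩ := conn_of_fin (r := 2) hp4 (S1054.result chevF4 (by simp))
    exact hi₀ (H244.S3509G2.ty_of_tau hp4 f inv_F4 one_ne_zero hl hconn Nat.prime_two hn hτ hτ2)
  · obtain ⟨m, rfl, hy⟩ := graph_form f hn hx2 hσ D
    exact graph_F4 f hn hIH hE e hx hcov h2 hy hT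

end Cfsg.Agent.H72.F4G
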