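import Cfsg.Agent.H72.F4G.Reg
import Cfsg.Agent.H72.G2G.LevB
import Cfsg.Agent.H566.G2.DerL0
import Cfsg.Agent.H368.TwIso
import Cfsg.Agent.S1068
import Cfsg.Agent.S1072
import Cfsg.Agent.S1074

/-!
# S3509, `F₄(2^n)`, `n` odd: the level of the graph-field automorphism (helper72)

* `Psi m` : the automorphism `Γ * Frob^m`; `exists_beta`, `mem_L` : the fixed points are `²F₄(q)`;
* `der_facts` : the derived group is simple, not abelian, not alternating.
-/

set_option autoImplicit false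
set_option linter.unusedSectionVars false

namespace Cfsg.Agent.H72.F4G

open Subgroup Cfsg Cfsg.Lie Cfsg.Lie.ChevalleyDatum
open Cfsg.Agent.ChevalleyStructure Cfsg.Agent.ChevalleyStructure.Elts
open Cfsg.Agent.GpExc.Field (glMap emb coe_emb glMap_xG emb_injective coe_glMap)
open Cfsg.Agent.BpExc.FamUntw Cfsg.Agent.BpExc.FamField Cfsg.Agent.BpExc.TowChev
open Cfsg.Agent.H79.SimpleGen (xS)
open Cfsg.Agent.H296.FFour (hp4 br la tab al al_xS fld_xS phi_xS tab2 ext4 sg sg_xS al_phi_sq lang4)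
open Cfsg.Agent.H469.Exc
open Cfsg.Agent.H327.RG (fixS mem_fixS)
open Cfsg.Agent.H72.G2G (NSC ncomm_congr com_equiv der_equiv)
open scoped commutatorElement

/-! ### general facts -/

theorem nalt_congr {S S' : Type*} [Group S] [Group S'] (e : S ≃* S') (h : ¬ IsAlternating S') : ¬ IsAlternating S := by
  rintro ⟨k, hk, ⟨e'⟩⟩
  exact h ⟨k, hk, ⟨e.symm.trans e'⟩⟩

/-- alternating groups of order divisible by 13 have order divisible by 7 -/
theorem alt_thirteen {S : Type*} [Group S] (h : IsAlternating S) (h13 : 13 ∣ Nat.card S) : 7 ∣ Nat.card S := by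
  obtain ⟨k, hk, ⟨e⟩⟩ := h
  have h1 : 2 * Nat.card S = k.factorial := H566.G2.card_alt hk e
  have h2 : 13 ∣ k.factorial := by rw [← h1]; exact h13.mul_left 2
  have h3 : 13 ≤ k := (Nat.Prime.dvd_factorial (by norm_num)).1 h2
  have h4 : 7 ∣ k.factorial := Nat.dvd_factorial (by norm_num) (by omega)
  rw [← h1] at h4
  exact Nat.Coprime.dvd_of_dvd_mul_left (by norm_num) h4

theorem com_eq_top {G : Type*} [Group G] (h1 : IsSimpleGroup G) (h2 : ¬ IsMulCommutative G) : commutator G = ⊤ := by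
  rcases h1.eq_bot_or_eq_top_of_normal (commutator G) inferInstance with h | h
  · exfalso
    refine h2 ⟨⟨fun a b => ?_⟩⟩
    have h3 : ⁅a, b⁆ ∈ commutator G := commutator_mem_commutator (mem_top a) (mem_top b)
    rw [h, mem_bot] at h3
    exact commutatorElement_eq_one_iff_mul_comm.1 h3
  · exact h

/-- the derived group is simple, not commutative and not alternating -/
structure NSD (G : Type*) [Group G] : Prop extends NSC G where
  nalt : ¬ IsAlternating ↥(commutator G)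

theorem NSD.congr {G G' : Type*} [Group G] [Group G'] (h : NSD G') (e : G ≃* G') : NSD G := by
  obtain ⟨e3⟩ := com_equiv e
  exact ⟨h.toNSC.congr e, nalt_congr e3 h.nalt⟩

theorem NSD.of_simple {G : Type*} [Group G] (h1 : IsSimpleGroup G)
    (h2 : ¬ IsMulCommutative G) (h3 : ¬ IsAlternating G) : NSD G := by
  have h := com_eq_top h1 h2
  have e : ↥(commutator G) ≃* G := (MulEquiv.subgroupCongr h).trans Subgroup.topEquiv
  exact ⟨NSC.of_perfect h h1 h2, nalt_congr e h3⟩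

theorem NSD.of_card {G : Type*} [Group G] (h1 : IsSimpleGroup ↥(commutator G)) (h2 : ¬ IsMulCommutative ↥(commutator G))
    (h3 : Nat.card ↥(commutator G) = 2 ^ 11 * 3 ^ 3 * 5 ^ 2 * 13) : NSD G := by
  refine ⟨⟨h1, h2⟩, fun h => ?_⟩
  have h4 := alt_thirteen h (by rw [h3]; exact Dvd.intro_left _ rfl)
  rw [h3] at h4
  norm_num at h4

theorem com2 : NSD ↥(twistedF4 (ZMod 2) 1) := by
  obtain ⟨-, h1, h2, h3⟩ := S1074.result
  exact NSD.of_card h1 h2 h3

theorem nalt_tw {F : Type*} [Field F] [Fintype F] {m : ℕ} (hm : 1 ≤ m) (hF : Fintype.card F = 2 ^ (2 * m + 1)) :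
    ¬ IsAlternating ↥(twistedF4 F (2 ^ m)) := by
  have hc := S1068.result hF
  refine H566.G2.not_alt_of_real (X := .TF4) (p := 2) (f := 2 * m + 1) ⟨Nat.prime_two, by omega, ?_, ?_⟩ ?_
  · exact ⟨rfl, ⟨m, rfl⟩, by omega⟩
  · rw [hc]
    change 1 * _ = (2 ^ (2 * m + 1)) ^ 12 * (_ * _ * _ * _)
    ring
  · rw [hc]
    obtain ⟨q, hq⟩ : ∃ q, q = 2 ^ (2 * m + 1) := ⟨_, rfl⟩
    have h8 : 8 ≤ q := by
      rw [hq]
      calc 8 = 2 ^ 3 := by norm_num
        _ ≤ _ := Nat.pow_le_pow_right (by norm_num) (by omega)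
    rw [← hq]
    have h1 : 8 ^ 12 ≤ q ^ 12 := Nat.pow_le_pow_left h8 12
    have h2 : 1 ≤ q - 1 := by omega
    have h3 : 1 ≤ q ^ 3 + 1 := by omega
    have h4 : 8 ^ 4 ≤ q ^ 4 := Nat.pow_le_pow_left h8 4
    have h5 : 1 ≤ q ^ 4 - 1 := by omega
    have h6 : 1 ≤ q ^ 6 + 1 := by omega
    calc 20160 < 8 ^ 12 * 1 * 1 * 1 * 1 := by norm_num
      _ ≤ _ := Nat.mul_le_mul (Nat.mul_le_mul (Nat.mul_le_mul (Nat.mul_le_mul h1 h2) h3) h5) h6

/-- the derived group of `²F₄(q)` -/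
theorem com_simple {F : Type} [Field F] [Fintype F] {m : ℕ} (hF : Fintype.card F = 2 ^ (2 * m + 1)) :
    NSD ↥(twistedF4 F (2 ^ m)) := by
  rcases Nat.eq_zero_or_pos m with rfl | hm
  · have hc : Fintype.card F = Fintype.card (ZMod 2) := by rw [hF, ZMod.card]; norm_num
    obtain ⟨e⟩ := H368.TwIso.twistedF4_congr (F := F) (K := ZMod 2) hc 1
    rw [pow_zero]
    exact com2.congr e
  · obtain ⟨h1, h2⟩ := S1072.result hm hF
    exact NSD.of_simple h1 h2 (nalt_tw hm hF)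

/-! ### the level -/

/-- the graph-field automorphism -/
noncomputable def Psi (m : ℕ) : MulAut ↥(chevF4.group (KK 2)) := al (KK 2) * phi chevF4 (KK 2) 2 m

theorem Psi_xS (m : ℕ) {r : ℕ} (hr : r < 48) (t : KK 2) :
    Psi m (xS hp4.inList r t) = xS hp4.inList (br r) (t ^ (2 ^ m * la r)) := by
  rw [Psi, MulAut.mul_apply, phi_xS, al_xS hr, pow_mul]

theorem Psi_sq (m : ℕ) : Psi m * Psi m = phi chevF4 (KK 2) 2 (2 * m + 1) := al_phi_sq m

theorem cw_Psi (m : ℕ) {w : List ℕ} (hw : ∀ r ∈ w, r < 48) : Psi m (cw (KK 2) w) = cw (KK 2) (fw w) :=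
  aut_cw (e := fun r => 2 ^ m * la r) (fun _ hr t => Psi_xS m hr t) hw

section

variable {F : Type} [Field F] [Fintype F] (f : F →+* KK 2) {m : ℕ}
  (hF : Fintype.card F = 2 ^ (2 * m + 1))

include hF in
theorem char2 : CharP F 2 := by
  have : Fact (Nat.Prime 2) := ⟨Nat.prime_two⟩
  exact charP_of_card_eq_prime_pow hF

/-- the embedding intertwines -/
theorem emb_sg [CharP F 2] [PerfectRing F 2] (m : ℕ) (a : ↥(chevF4.group F)) :
    emb hp4.inList f (sg (frb F 2 m) a) = Psi m (emb hp4.inList f a) := by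
  have h1 : (emb hp4.inList f).comp (sg (frb F 2 m)).toMonoidHom = (Psi m).toMonoidHom.comp (emb hp4.inList f) := by
    apply ext4
    intro r hr t
    show emb hp4.inList f (sg (frb F 2 m) (xS hp4.inList r t)) = Psi m (emb hp4.inList f (xS hp4.inList r t))
    rw [sg_xS _ hr, emb_xS, emb_xS, Psi_xS m hr, frb_apply, ← pow_mul, map_pow]
  exact DFunLike.congr_fun h1 a

include hF in
/-- **the fixed points** -/
theorem mem_L (a : ↥(chevF4.group F)) : a ∈ fixS (emb hp4.inList f) (Psi m) ↔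
    (a : GL chevF4.Idx F) ∈ twistedF4 F (2 ^ m) := by
  have : Fact (Nat.Prime 2) := ⟨Nat.prime_two⟩
  have : CharP F 2 := char2 hF
  have : ExpChar F 2 := ExpChar.prime Nat.prime_two
  have : PerfectRing F 2 := PerfectRing.ofFiniteOfIsReduced 2 F
  have hτ : ∀ a : F, frb F 2 m a = a ^ 2 ^ m := fun a => frb_apply F 2 m a
  rw [mem_fixS, ← emb_sg]
  constructor
  · intro h
    exact H296.FFour.fix_le hF hτ (emb_injective hp4.inList f h)
  · intro h
    obtain ⟨b, hb, hb2⟩ := H296.FFour.le_fix hF hτ h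
    have : b = a := Subtype.ext hb
    rw [← this, hb2]

theorem tw_le {m : ℕ} (hF : Fintype.card F = 2 ^ (2 * m + 1)) : twistedF4 F (2 ^ m) ≤ chevF4.group F := by
  have : Fact (Nat.Prime 2) := ⟨Nat.prime_two⟩
  have : CharP F 2 := char2 hF
  have : ExpChar F 2 := ExpChar.prime Nat.prime_two
  have : PerfectRing F 2 := PerfectRing.ofFiniteOfIsReduced 2 F
  have hτ : ∀ a : F, frb F 2 m a = a ^ 2 ^ m := fun a => frb_apply F 2 m a
  intro g hg
  obtain ⟨b, hb, -⟩ := H296.FFour.le_fix hF hτ hg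
  rw [← hb]
  exact b.2

include hF in
theorem L_equiv : Nonempty (↥(fixS (emb hp4.inList f) (Psi m)) ≃* ↥(twistedF4 F (2 ^ m))) := by
  have h : fixS (emb hp4.inList f) (Psi m) = (twistedF4 F (2 ^ m)).subgroupOf (chevF4.group F) := by
    ext a
    rw [mem_L f hF, Subgroup.mem_subgroupOf]
  exact ⟨(MulEquiv.subgroupCongr h).trans (Subgroup.subgroupOfEquivOfLe (tw_le hF))⟩

include hF in
theorem der_facts : IsSimpleGroup ↥⁅fixS (emb hp4.inList f) (Psi m), fixS (emb hp4.inList f) (Psi m)⁆ ∧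
    ¬ IsMulCommutative ↥⁅fixS (emb hp4.inList f) (Psi m), fixS (emb hp4.inList f) (Psi m)⁆ ∧
    ¬ IsAlternating ↥⁅fixS (emb hp4.inList f) (Psi m), fixS (emb hp4.inList f) (Psi m)⁆ := by
  obtain ⟨e⟩ := L_equiv f hF
  obtain ⟨e2⟩ := der_equiv _ e
  have h := com_simple hF
  exact ⟨(MulEquiv.isSimpleGroup_congr e2).2 h.simple, ncomm_congr e2 h.ncomm, nalt_congr e2 h.nalt⟩

end

end Cfsg.Agent.H72.F4G
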