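import Cfsg.Agent.H72.F4G.Lev
import Cfsg.Agent.H327.RG.FldAbs
import Cfsg.Agent.H327.RG.Untw

/-!
# S3509, `F₄(2^n)`, `n` odd: a cover with a graph-field automorphism of order 2 is impossible (helper72)

* `cent_L`, `fin_L` : the facts about the level; `graph_F4`.
-/

set_option autoImplicit false
set_option linter.unusedSectionVars false

namespace Cfsg.Agent.H72.F4G

open MulAction Subgroup Cfsg Cfsg.Lie Cfsg.Lie.ChevalleyDatum
open Cfsg.Agent.ChevalleyStructure Cfsg.Agent.ChevalleyStructure.Elts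
open Cfsg.Agent.GpExc.Field (glMap emb coe_emb glMap_xG emb_injective coe_glMap)
open Cfsg.Agent.BpExc.FamUntw Cfsg.Agent.BpExc.FamField Cfsg.Agent.BpExc.TowChev
open Cfsg.Agent.H79.SimpleGen (xS)
open Cfsg.Agent.H296.FFour (hp4 br la tab al al_xS fld_xS phi_xS tab2 ext4 sg sg_xS al_phi_sq lang4)
open Cfsg.Agent.H469.Exc
open Cfsg.Agent.H327.RG (fixS mem_fixS Fr Fl Lv Ty act FL fl_untw field_abs)
open Cfsg.Agent.H522.FamTw.Cent (Co co_word)
open Cfsg.Agent.H106.RC Cfsg.Agent.H873.RG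
open Cfsg.Agent.H28.GenF (InD)
open scoped commutatorElement

set_option maxRecDepth 100000 in
theorem ck_z1 : ck ([44] ++ [23]) ([23] ++ [44]) = true := by decide +kernel
set_option maxRecDepth 100000 in
theorem ck_z2 : ck ([47] ++ [23]) ([46] ++ ([23] ++ [47])) = true := by decide +kernel
theorem fw_24 : fw [24] = [33] := by decide +kernel

/-- `x_{33}(c) x_{24}(d)` determines `d` -/
theorem xa_inj {k : Type*} [Field k] {c d c' d' : k}
    (h : xS hp4.inList 33 c * xS hp4.inList 24 d = xS hp4.inList 33 c' * xS hp4.inList 24 d') : d = d' := by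
  have h3 : 3 < chevF4.rank := by decide
  have e : ∀ c d : k, Co hp4.inList 3 ((xS hp4.inList 33 c * xS hp4.inList 24 d : ↥(chevF4.group k)) :
      GL chevF4.Idx k) d := by
    intro c d
    have h1 := co_word (hD := hp4.inList) h3 [(33, c), (24, d)] (by
      intro q hq
      rcases List.mem_cons.1 hq with rfl | hq
      · exact pos_tab 33 (by norm_num) (by norm_num)
      · rw [List.mem_singleton] at hq
        subst hq
        exact pos_tab 24 (by norm_num) (by norm_num))
    have e1 : wordG hp4.inList [(33, c), (24, d)] =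
        ((xS hp4.inList 33 c * xS hp4.inList 24 d : ↥(chevF4.group k)) : GL chevF4.Idx k) := by
      rw [wordG_cons, wordG_cons, wordG_nil, mul_one]
      rfl
    have e2 : (([(33, c), (24, d)].map fun q => if q.1 = chevF4.simple 3 then q.2 else 0).sum) = d := by
      rw [simple_tab.2.2.2.1]
      simp
    rw [e1, e2] at h1
    exact h1
  have h1 := e c d
  rw [h] at h1
  exact Co.unique h3 h1 (e c' d')

theorem z0_ne {k : Type*} [Field k] [CharP k 2] : cw k z0 ≠ 1 := by
  intro h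
  have h1 : cw k [47] * cw k [44] = 1 := by rw [← cw_append]; exact h
  have h2 := cw_eq k ck_z1
  have h3 := cw_eq k ck_z2
  rw [cw_append, cw_append] at h2
  rw [cw_append, cw_append, cw_append] at h3
  have h4 : cw k [47] = (cw k [44])⁻¹ := eq_inv_of_mul_eq_one_left h1
  have h5 : cw k [47] * cw k [23] = cw k [23] * cw k [47] := by
    rw [h4]
    have h6 : Commute (cw k [44]) (cw k [23]) := h2
    exact h6.inv_left.eq
  have h7 : cw k [46] = 1 := by
    rw [h5] at h3
    exact mul_eq_right.1 h3.symm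
  rw [cw_cons, cw_nil, mul_one] at h7
  have h8 := congrArg Subtype.val h7
  have h9 : xG hp4.inList 46 (1 : k) = 1 := h8
  rw [xG_eq_one_iff hp4.inList (by decide : 46 < chevF4.nroots)] at h9
  exact one_ne_zero h9

section

variable {F : Type} [Field F] [Fintype F] (f : F →+* KK 2) {m : ℕ}
  (hF : Fintype.card F = 2 ^ (2 * m + 1))

/-- constant words in the level -/
theorem cw_mem_L {w : List ℕ} (hw : ∀ r ∈ w, r < 48) (h : ck (fw w) w = true) :
    cw F w ∈ fixS (emb hp4.inList f) (Psi m) := by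
  rw [mem_fixS, emb_cw, cw_Psi m hw, cw_eq _ h]

theorem u0_mem_L : cw F u0 ∈ fixS (emb hp4.inList f) (Psi m) := by
  rw [u0, cw_append]
  exact mul_mem (cw_mem_L f (by decide) ck_s0) (cw_mem_L f (by decide) ck_s1)

theorem n0_mem_L : n0 F ∈ fixS (emb hp4.inList f) (Psi m) := by
  have h : cw F (nw v0) ∈ fixS (emb hp4.inList f) (Psi m) := by
    rw [nw_v0, cw_append]
    exact mul_mem (cw_mem_L f (by decide) ck_n1) (cw_mem_L f (by decide) ck_n2)
  unfold n0
  exact mul_mem h (mul_mem h (mul_mem h h))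

theorem emb_n0 : emb hp4.inList f (n0 F) = n0 (KK 2) := by
  unfold n0
  rw [map_mul, map_mul, map_mul, emb_cw]

theorem phi_n0 (m' : ℕ) : phi chevF4 (KK 2) 2 m' (n0 (KK 2)) = n0 (KK 2) := by
  unfold n0
  rw [map_mul, map_mul, map_mul, cw_phi]

include hF in
/-- the elements `x_{33}(v^θ) x_{24}(v)` -/
theorem xa_mem_L (v : F) : xS hp4.inList 33 (v ^ 2 ^ m) * xS hp4.inList 24 v ∈ fixS (emb hp4.inList f) (Psi m) := by
  rw [mem_L f hF]
  refine Subgroup.subset_closure ⟨f4PairWord (2 ^ m) f4p1 f4p4 v, Or.inl ⟨v, Or.inl rfl⟩, ?_⟩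
  have e1 : ((xS hp4.inList 33 (v ^ 2 ^ m) * xS hp4.inList 24 v : ↥(chevF4.group F)) : GL chevF4.Idx F) =
      wordG hp4.inList [(33, v ^ 2 ^ m), (24, v)] := by
    rw [wordG_cons, wordG_cons, wordG_nil, mul_one]
    rfl
  rw [e1, coe_wordG]
  rfl

/-- **the centralizer of the level** -/
theorem cent_L {y : ↥(chevF4.group (KK 2))}
    (h : ∀ a ∈ fixS (emb hp4.inList f) (Psi m), y * emb hp4.inList f a = emb hp4.inList f a * y) : y = 1 := by
  have hu := h _ (u0_mem_L f (m := m))
  have hn := h _ (n0_mem_L f (m := m))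
  rw [emb_cw] at hu
  rw [emb_n0] at hn
  exact eq_one_of_u0_n0 hu hn

theorem cent_all {y : ↥(chevF4.group (KK 2))} (h : ∀ a, y * emb hp4.inList f a = emb hp4.inList f a * y) : y = 1 :=
  cent_L f (m := 0) fun a _ => h a

include hF in
/-- **the end** -/
theorem fin_L {β : MulAut ↥(chevF4.group F)} (hβ : ∀ a, emb hp4.inList f (β a) = Psi m (emb hp4.inList f a)) :
    ∃ u ∈ ⁅fixS (emb hp4.inList f) (Psi m), fixS (emb hp4.inList f) (Psi m)⁆, u ≠ 1 ∧
      ∃ a b : ↥(chevF4.group F), a * u = u * a ∧ b * u = u * b ∧ ⁅β a * a⁻¹, b⁆ = u := by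
  have : CharP F 2 := char2 hF
  have hc := cw_eq F ck_comm
  rw [cw_append, cw_append, cw_append] at hc
  have ha := cw_eq F ck_a
  rw [cw_append, cw_append] at ha
  have hb := cw_eq F ck_b
  rw [cw_append, cw_append] at hb
  have h2 : ⁅cw F s0, cw F h0⁆ = cw F z0 := by
    rw [commutatorElement_def, hc]
    group
  refine ⟨cw F z0, ?_, z0_ne, cw F [24], cw F h0, ha, hb, ?_⟩
  · have h1 := commutator_mem_commutator (cw_mem_L f (m := m) (w := s0) (by decide) ck_s0)
      (cw_mem_L f (m := m) (w := h0) (by decide) ck_h0)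
    rwa [h2] at h1
  · have h1 : β (cw F [24]) = cw F [33] := by
      apply emb_injective hp4.inList f
      rw [hβ, emb_cw, emb_cw, cw_Psi m (by decide), fw_24]
    have h3 : (cw F [24])⁻¹ = cw F [24] := by
      rw [inv_eq_iff_mul_eq_one, cw_cons, cw_nil, mul_one]
      have h5 := xG_add (F := F) hp4.inList 24 1 1
      rw [CharTwo.add_self_eq_zero, xG_zero] at h5
      exact Subtype.ext h5
    rw [h1, h3, ← cw_append, ← h2]
    rfl

include hF in
/-- **no field automorphism is trivial on the level** -/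
theorem fld_L {y : ↥(chevF4.group (KK 2))} {m' p : ℕ} (hm' : 0 < m') (hp : 1 < p) (hmn : m' * p = 2 * m + 1) :
    ¬ ∀ a ∈ fixS (emb hp4.inList f) (Psi m), y * phi chevF4 (KK 2) 2 m' (emb hp4.inList f a) * y⁻¹ =
      emb hp4.inList f a := by
  intro h
  have : Fact (Nat.Prime 2) := ⟨Nat.prime_two⟩
  have : CharP F 2 := char2 hF
  have hu := h _ (u0_mem_L f (m := m))
  have hn := h _ (n0_mem_L f (m := m))
  rw [emb_cw, cw_phi, mul_inv_eq_iff_eq_mul] at hu
  rw [emb_n0, phi_n0, mul_inv_eq_iff_eq_mul] at hn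
  have hy : y = 1 := eq_one_of_u0_n0 hu hn
  subst hy
  have h1 : 2 * m + 1 ∣ m' := by
    rw [← forall_pow_iff (F := F) 2 (by rw [Nat.card_eq_fintype_card, hF]) m']
    intro v
    have h2 := h _ (xa_mem_L f hF v)
    rw [one_mul, inv_one, mul_one, map_mul, emb_xS, emb_xS, map_mul, phi_xS, phi_xS] at h2
    have h3 := xa_inj h2
    rw [← map_pow] at h3
    exact f.injective h3
  have h2 := Nat.le_of_dvd hm' h1
  have h3 : m' * 2 ≤ m' * p := Nat.mul_le_mul_left _ hp
  omega

include hF in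
/-- the frame -/
theorem fr_F4 : Fr (emb hp4.inList f) (phi chevF4 (KK 2) 2 (2 * m + 1)) := by
  have : Fact (Nat.Prime 2) := ⟨Nat.prime_two⟩
  have : CharP F 2 := char2 hF
  have hZ : center ↥(chevF4.group (KK 2)) = ⊥ := by
    rw [eq_bot_iff]
    intro y hy
    rw [mem_bot]
    exact cent_all f fun a => (mem_center_iff.1 hy _).symm
  have h1 := fl_untw hp4 f (n := 2 * m + 1) (m := 2 * m + 1) (p := 1)
    (by rw [Nat.card_eq_fintype_card, hF]) (by omega) (by omega) hZ
  exact ⟨h1.inj, h1.cent, h1.fixι, h1.norm⟩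

include hF in
/-- **the level** -/
theorem lv_F4 (hIH : IHx (Nat.card ↥(chevF4.group F))) :
    Lv (emb hp4.inList f) (phi chevF4 (KK 2) 2 (2 * m + 1)) 2 (Psi m) (fixS (emb hp4.inList f) (Psi m)) := by
  obtain ⟨h1, h2, h3⟩ := der_facts f hF
  have hne : ⁅fixS (emb hp4.inList f) (Psi m), fixS (emb hp4.inList f) (Psi m)⁆ ≠ ⊤ := by
    intro h
    have h4 : fixS (emb hp4.inList f) (Psi m) = ⊤ := by
      rw [eq_top_iff, ← h]
      exact commutator_le_self _
    have h5 : ∀ a, Psi m (emb hp4.inList f a) = emb hp4.inList f a := fun a => by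
      rw [← mem_fixS, h4]; exact mem_top a
    obtain ⟨u, -, hu, a, b, -, -, hab⟩ := fin_L f hF (β := 1) (fun a => (h5 a).symm)
    apply hu
    rw [← hab, MulAut.one_apply, mul_inv_cancel, commutatorElement_one_left]
  refine
    { pow := by rw [pow_two]; exact Psi_sq m
      lang := fun h => lang4 m h
      fixL := fun a ha => ha
      charL := fun α hα a ha => hα a ha
      centL := fun y hy => cent_L f hy
      simple := h1
      ncomm := h2
      rc := ?_
      fin := fun β hβ => fin_L f hF hβ }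
  refine hIH _ ⟨h1, h2, h3⟩ ?_
  by_contra hlt
  exact hne (Subgroup.eq_top_of_le_card _ (not_lt.1 hlt))

end

/-- **`F₄(2^n)`: a cover with a graph-field automorphism, all other members inner-diagonal or of field type, is
impossible.** -/
theorem graph_F4 {F : Type} [Field F] [Fintype F] [CharP F 2] (f : F →+* KK 2) {m : ℕ}
    (hn : Nat.card F = 2 ^ (2 * m + 1)) (hIH : IHx (Nat.card ↥(chevF4.group F)))
    {G Ω κ : Type*} [Group G] [MulAction G Ω] [Nonempty Ω] [Finite κ] {N : Subgroup G} (hE : Env G Ω N)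
    (e : N ≃* ↥(chevF4.group F)) {x : κ → G} {q : κ → ℕ} (hx : PF x q) (hcov : Cov Ω x) {i₀ : κ} (h2 : q i₀ = 2)
    (hi₀ : ∃ y, ∀ a, emb hp4.inList f (act hE e (x i₀) a) = y * Psi m (emb hp4.inList f a) * y⁻¹)
    (hT : ∀ j, j ≠ i₀ → Ty hp4 f (2 * m + 1) (q j) (act hE e (x j))) : False := by
  have hF : Fintype.card F = 2 ^ (2 * m + 1) := by rw [← Nat.card_eq_fintype_card, hn]
  obtain ⟨y, hy⟩ := hi₀
  refine field_abs (fr_F4 f hF) (lv_F4 f hF hIH) hE e hx hcov h2 ⟨1, y, by norm_num, fun a => ?_⟩ ?_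
  · rw [pow_one]
    exact hy a
  · intro j hj
    rcases hT j hj with h | ⟨i, m', y', hi, hm', hmn, hy'⟩
    · exact Or.inl h
    · refine Or.inr ⟨phi chevF4 (KK 2) 2 m', ⟨i, y', hi, hy'⟩, fun z => ?_⟩
      exact fld_L f hF hm' (hx.prime j).one_lt hmn

end Cfsg.Agent.H72.F4G
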